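import Cfsg.Agent.Lib.MinE8.Sys
import Cfsg.Agent.Lib.Chev.Mono1

/-! Tables and finite checks for the instance of `SysE8` in `chevE8.group F` (words generated by python). -/

set_option autoImplicit false
set_option linter.unusedSectionVars false
set_option linter.unusedVariables false
set_option maxRecDepth 100000

namespace Cfsg.Agent.Lib.MinE8.InstD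

open Cfsg Lie
open Cfsg.Agent.Lib.Chev AxBasic Mono1

def wdA : Array (List ℕ) := #[[0,2,3,4,5,1,3,4,2,3,0,2,1,3,4,5,6,5,4,3,1,2,0,3,2,4,3,1,5,4,3,2,0], [2,3,4,5,1,3,4,2,3,0,2,1,3,4,5,6,5,4,3,1,2,0,3,2,4,3,1,5,4,3,2], [3,4,5,1,3,4,2,3,0,2,1,3,4,5,6,5,4,3,1,2,0,3,2,4,3,1,5,4,3], [4,5,1,3,4,2,3,0,2,1,3,4,5,6,5,4,3,1,2,0,3,2,4,3,1,5,4], [5,1,3,4,2,3,0,2,1,3,4,5,6,5,4,3,1,2,0,3,2,4,3,1,5], [1,3,4,2,3,0,2,1,3,4,5,6,5,4,3,1,2,0,3,2,4,3,1], [6,1,3,4,2,3,0,2,1,3,4,5,6,5,4,3,1,2,0,3,2,4,3,1,6], [4,5,3,4,2,3,0,2,1,3,4,5,6,5,4,3,1,2,0,3,2,4,3,5,4], [5,3,4,2,3,0,2,1,3,4,5,6,5,4,3,1,2,0,3,2,4,3,5], [3,4,2,3,0,2,1,3,4,5,6,5,4,3,1,2,0,3,2,4,3], [6,3,4,2,3,0,2,1,3,4,5,6,5,4,3,1,2,0,3,2,4,3,6],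 [5,4,2,3,0,2,1,3,4,5,6,5,4,3,1,2,0,3,2,4,5], [4,2,3,0,2,1,3,4,5,6,5,4,3,1,2,0,3,2,4], [6,4,2,3,0,2,1,3,4,5,6,5,4,3,1,2,0,3,2,4,6], [2,3,0,2,1,3,4,5,6,5,4,3,1,2,0,3,2], [6,2,3,0,2,1,3,4,5,6,5,4,3,1,2,0,3,2,6], [5,6,2,3,0,2,1,3,4,5,6,5,4,3,1,2,0,3,2,6,5], [5,4,3,0,2,1,3,4,5,6,5,4,3,1,2,0,3,4,5], [4,3,0,2,1,3,4,5,6,5,4,3,1,2,0,3,4], [6,4,3,0,2,1,3,4,5,6,5,4,3,1,2,0,3,4,6], [3,0,2,1,3,4,5,6,5,4,3,1,2,0,3], [6,3,0,2,1,3,4,5,6,5,4,3,1,2,0,3,6], [5,6,3,0,2,1,3,4,5,6,5,4,3,1,2,0,3,6,5], [0,2,1,3,4,5,6,5,4,3,1,2,0], [6,0,2,1,3,4,5,6,5,4,3,1,2,0,6], [5,6,0,2,1,3,4,5,6,5,4,3,1,2,0,6,5], [4,5,6,0,2,1,3,4,5,6,5,4,3,1,2,0,6,5,4], [0,2,3,4,5,6,5,4,3,2,0], [6,0,2,3,4,5,6,5,4,3,2,0,6],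 [5,6,0,2,3,4,5,6,5,4,3,2,0,6,5], [4,5,6,0,2,3,4,5,6,5,4,3,2,0,6,5,4], [3,4,5,6,0,2,3,4,5,6,5,4,3,2,0,6,5,4,3], [2,3,4,5,6,0,2,3,4,5,6,5,4,3,2,0,6,5,4,3,2], [5,4,3,2,1,3,4,5,6,5,4,3,1,2,3,4,5], [4,3,2,1,3,4,5,6,5,4,3,1,2,3,4], [6,4,3,2,1,3,4,5,6,5,4,3,1,2,3,4,6], [3,2,1,3,4,5,6,5,4,3,1,2,3], [6,3,2,1,3,4,5,6,5,4,3,1,2,3,6], [5,6,3,2,1,3,4,5,6,5,4,3,1,2,3,6,5], [2,1,3,4,5,6,5,4,3,1,2], [6,2,1,3,4,5,6,5,4,3,1,2,6], [5,6,2,1,3,4,5,6,5,4,3,1,2,6,5], [4,5,6,2,1,3,4,5,6,5,4,3,1,2,6,5,4], [1,3,4,5,6,5,4,3,1], [6,1,3,4,5,6,5,4,3,1,6], [5,6,1,3,4,5,6,5,4,3,1,6,5], [4,5,6,1,3,4,5,6,5,4,3,1,6,5,4], [3,4,5,6,1,3,4,5,6,5,4,3,1,6,5,4,3], [2,3,4,5,6,5,4,3,2], [6,2,3,4,5,6,5,4,3,2,6],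 [5,6,2,3,4,5,6,5,4,3,2,6,5], [4,5,6,2,3,4,5,6,5,4,3,2,6,5,4], [3,4,5,6,2,3,4,5,6,5,4,3,2,6,5,4,3], [3,4,5,6,5,4,3], [6,3,4,5,6,5,4,3,6], [5,6,3,4,5,6,5,4,3,6,5], [4,5,6,3,4,5,6,5,4,3,6,5,4], [4,5,6,5,4], [6,4,5,6,5,4,6], [5,6,4,5,6,5,4,6,5], [5,6,5], [6,5,6,5,6], [6], [6], [6,5,6,5,6], [5,6,5], [5,6,4,5,6,5,4,6,5], [6,4,5,6,5,4,6], [4,5,6,5,4], [4,5,6,3,4,5,6,5,4,3,6,5,4], [5,6,3,4,5,6,5,4,3,6,5], [6,3,4,5,6,5,4,3,6], [3,4,5,6,5,4,3], [3,4,5,6,2,3,4,5,6,5,4,3,2,6,5,4,3], [4,5,6,2,3,4,5,6,5,4,3,2,6,5,4], [5,6,2,3,4,5,6,5,4,3,2,6,5], [6,2,3,4,5,6,5,4,3,2,6], [2,3,4,5,6,5,4,3,2], [3,4,5,6,1,3,4,5,6,5,4,3,1,6,5,4,3], [4,5,6,1,3,4,5,6,5,4,3,1,6,5,4], [5,6,1,3,4,5,6,5,4,3,1,6,5],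 [6,1,3,4,5,6,5,4,3,1,6], [1,3,4,5,6,5,4,3,1], [4,5,6,2,1,3,4,5,6,5,4,3,1,2,6,5,4], [5,6,2,1,3,4,5,6,5,4,3,1,2,6,5], [6,2,1,3,4,5,6,5,4,3,1,2,6], [2,1,3,4,5,6,5,4,3,1,2], [5,6,3,2,1,3,4,5,6,5,4,3,1,2,3,6,5], [6,3,2,1,3,4,5,6,5,4,3,1,2,3,6], [3,2,1,3,4,5,6,5,4,3,1,2,3], [6,4,3,2,1,3,4,5,6,5,4,3,1,2,3,4,6], [4,3,2,1,3,4,5,6,5,4,3,1,2,3,4], [5,4,3,2,1,3,4,5,6,5,4,3,1,2,3,4,5], [2,3,4,5,6,0,2,3,4,5,6,5,4,3,2,0,6,5,4,3,2], [3,4,5,6,0,2,3,4,5,6,5,4,3,2,0,6,5,4,3], [4,5,6,0,2,3,4,5,6,5,4,3,2,0,6,5,4], [5,6,0,2,3,4,5,6,5,4,3,2,0,6,5], [6,0,2,3,4,5,6,5,4,3,2,0,6], [0,2,3,4,5,6,5,4,3,2,0], [4,5,6,0,2,1,3,4,5,6,5,4,3,1,2,0,6,5,4], [5,6,0,2,1,3,4,5,6,5,4,3,1,2,0,6,5], [6,0,2,1,3,4,5,6,5,4,3,1,2,0,6],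 [0,2,1,3,4,5,6,5,4,3,1,2,0], [5,6,3,0,2,1,3,4,5,6,5,4,3,1,2,0,3,6,5], [6,3,0,2,1,3,4,5,6,5,4,3,1,2,0,3,6], [3,0,2,1,3,4,5,6,5,4,3,1,2,0,3], [6,4,3,0,2,1,3,4,5,6,5,4,3,1,2,0,3,4,6], [4,3,0,2,1,3,4,5,6,5,4,3,1,2,0,3,4], [5,4,3,0,2,1,3,4,5,6,5,4,3,1,2,0,3,4,5], [5,6,2,3,0,2,1,3,4,5,6,5,4,3,1,2,0,3,2,6,5], [6,2,3,0,2,1,3,4,5,6,5,4,3,1,2,0,3,2,6], [2,3,0,2,1,3,4,5,6,5,4,3,1,2,0,3,2], [6,4,2,3,0,2,1,3,4,5,6,5,4,3,1,2,0,3,2,4,6], [4,2,3,0,2,1,3,4,5,6,5,4,3,1,2,0,3,2,4], [5,4,2,3,0,2,1,3,4,5,6,5,4,3,1,2,0,3,2,4,5], [6,3,4,2,3,0,2,1,3,4,5,6,5,4,3,1,2,0,3,2,4,3,6], [3,4,2,3,0,2,1,3,4,5,6,5,4,3,1,2,0,3,2,4,3], [5,3,4,2,3,0,2,1,3,4,5,6,5,4,3,1,2,0,3,2,4,3,5], [4,5,3,4,2,3,0,2,1,3,4,5,6,5,4,3,1,2,0,3,2,4,3,5,4],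 [6,1,3,4,2,3,0,2,1,3,4,5,6,5,4,3,1,2,0,3,2,4,3,1,6], [1,3,4,2,3,0,2,1,3,4,5,6,5,4,3,1,2,0,3,2,4,3,1], [5,1,3,4,2,3,0,2,1,3,4,5,6,5,4,3,1,2,0,3,2,4,3,1,5], [4,5,1,3,4,2,3,0,2,1,3,4,5,6,5,4,3,1,2,0,3,2,4,3,1,5,4], [3,4,5,1,3,4,2,3,0,2,1,3,4,5,6,5,4,3,1,2,0,3,2,4,3,1,5,4,3], [2,3,4,5,1,3,4,2,3,0,2,1,3,4,5,6,5,4,3,1,2,0,3,2,4,3,1,5,4,3,2], [0,2,3,4,5,1,3,4,2,3,0,2,1,3,4,5,6,5,4,3,1,2,0,3,2,4,3,1,5,4,3,2,0]]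
def gwA : Array (List ℕ) := #[[0,2,3,4,5,1,3,4,2,3,0,2,1,3,4,5,6], [2,3,4,5,1,3,4,2,3,0,2,1,3,4,5,6], [3,4,5,1,3,4,2,3,0,2,1,3,4,5,6], [4,5,1,3,4,2,3,0,2,1,3,4,5,6], [5,1,3,4,2,3,0,2,1,3,4,5,6], [1,3,4,2,3,0,2,1,3,4,5,6], [1,3,4,2,3,0,2,1,3,4,5,6,5], [4,5,3,4,2,3,0,2,1,3,4,5,6], [5,3,4,2,3,0,2,1,3,4,5,6], [3,4,2,3,0,2,1,3,4,5,6], [3,4,2,3,0,2,1,3,4,5,6,5], [5,4,2,3,0,2,1,3,4,5,6], [4,2,3,0,2,1,3,4,5,6], [4,2,3,0,2,1,3,4,5,6,5], [2,3,0,2,1,3,4,5,6], [2,3,0,2,1,3,4,5,6,5], [2,3,0,2,1,3,4,5,6,4,5], [5,4,3,0,2,1,3,4,5,6], [4,3,0,2,1,3,4,5,6], [4,3,0,2,1,3,4,5,6,5], [3,0,2,1,3,4,5,6], [3,0,2,1,3,4,5,6,5], [3,0,2,1,3,4,5,6,4,5], [0,2,1,3,4,5,6], [0,2,1,3,4,5,6,5], [0,2,1,3,4,5,6,4,5],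 [0,2,1,3,4,5,6,3,4,5], [0,2,3,4,5,6], [0,2,3,4,5,6,5], [0,2,3,4,5,6,4,5], [0,2,3,4,5,6,3,4,5], [0,2,3,4,5,6,2,3,4,5], [0,2,3,4,5,6,0,2,3,4,5], [5,4,3,2,1,3,4,5,6], [4,3,2,1,3,4,5,6], [4,3,2,1,3,4,5,6,5], [3,2,1,3,4,5,6], [3,2,1,3,4,5,6,5], [3,2,1,3,4,5,6,4,5], [2,1,3,4,5,6], [2,1,3,4,5,6,5], [2,1,3,4,5,6,4,5], [2,1,3,4,5,6,3,4,5], [1,3,4,5,6], [1,3,4,5,6,5], [1,3,4,5,6,4,5], [1,3,4,5,6,3,4,5], [1,3,4,5,6,1,3,4,5], [2,3,4,5,6], [2,3,4,5,6,5], [2,3,4,5,6,4,5], [2,3,4,5,6,3,4,5], [2,3,4,5,6,2,3,4,5], [3,4,5,6], [3,4,5,6,5], [3,4,5,6,4,5], [3,4,5,6,3,4,5], [4,5,6], [4,5,6,5], [4,5,6,4,5], [5,6], [5,6,5], [6], [], [6,5], [5], [5,6,4,5], [6,4,5], [4,5], [4,5,6,3,4,5],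 [5,6,3,4,5], [6,3,4,5], [3,4,5], [3,4,5,6,2,3,4,5], [4,5,6,2,3,4,5], [5,6,2,3,4,5], [6,2,3,4,5], [2,3,4,5], [3,4,5,6,1,3,4,5], [4,5,6,1,3,4,5], [5,6,1,3,4,5], [6,1,3,4,5], [1,3,4,5], [4,5,6,2,1,3,4,5], [5,6,2,1,3,4,5], [6,2,1,3,4,5], [2,1,3,4,5], [5,6,3,2,1,3,4,5], [6,3,2,1,3,4,5], [3,2,1,3,4,5], [6,4,3,2,1,3,4,5], [4,3,2,1,3,4,5], [5,4,3,2,1,3,4,5], [2,3,4,5,6,0,2,3,4,5], [3,4,5,6,0,2,3,4,5], [4,5,6,0,2,3,4,5], [5,6,0,2,3,4,5], [6,0,2,3,4,5], [0,2,3,4,5], [4,5,6,0,2,1,3,4,5], [5,6,0,2,1,3,4,5], [6,0,2,1,3,4,5], [0,2,1,3,4,5], [5,6,3,0,2,1,3,4,5], [6,3,0,2,1,3,4,5], [3,0,2,1,3,4,5], [6,4,3,0,2,1,3,4,5], [4,3,0,2,1,3,4,5], [5,4,3,0,2,1,3,4,5], [5,6,2,3,0,2,1,3,4,5],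 [6,2,3,0,2,1,3,4,5], [2,3,0,2,1,3,4,5], [6,4,2,3,0,2,1,3,4,5], [4,2,3,0,2,1,3,4,5], [5,4,2,3,0,2,1,3,4,5], [6,3,4,2,3,0,2,1,3,4,5], [3,4,2,3,0,2,1,3,4,5], [5,3,4,2,3,0,2,1,3,4,5], [4,5,3,4,2,3,0,2,1,3,4,5], [6,1,3,4,2,3,0,2,1,3,4,5], [1,3,4,2,3,0,2,1,3,4,5], [5,1,3,4,2,3,0,2,1,3,4,5], [4,5,1,3,4,2,3,0,2,1,3,4,5], [3,4,5,1,3,4,2,3,0,2,1,3,4,5], [2,3,4,5,1,3,4,2,3,0,2,1,3,4,5], [0,2,3,4,5,1,3,4,2,3,0,2,1,3,4,5]]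
def lwA : Array (List ℕ) := #[[7,6,5,4,3,2,1,3,4,5,6,0,2,3,4,5,1,3,4,2,3,0,2,1,3,4,5,6,7,6,5,4,3,2,1,3,4,5,6,0,2,3,4,5,1,3,4,2,3,0,2,1,3,4,5,6,7], [6,5,4,3,2,1,3,4,5,6,0,2,3,4,5,1,3,4,2,3,0,2,1,3,4,5,6,7,6,5,4,3,2,1,3,4,5,6,0,2,3,4,5,1,3,4,2,3,0,2,1,3,4,5,6,7], [5,4,3,2,1,3,4,5,6,0,2,3,4,5,1,3,4,2,3,0,2,1,3,4,5,6,7,6,5,4,3,2,1,3,4,5,6,0,2,3,4,5,1,3,4,2,3,0,2,1,3,4,5,6,7], [4,3,2,1,3,4,5,6,0,2,3,4,5,1,3,4,2,3,0,2,1,3,4,5,6,7,6,5,4,3,2,1,3,4,5,6,0,2,3,4,5,1,3,4,2,3,0,2,1,3,4,5,6,7], [3,2,1,3,4,5,6,0,2,3,4,5,1,3,4,2,3,0,2,1,3,4,5,6,7,6,5,4,3,2,1,3,4,5,6,0,2,3,4,5,1,3,4,2,3,0,2,1,3,4,5,6,7], [2,1,3,4,5,6,0,2,3,4,5,1,3,4,2,3,0,2,1,3,4,5,6,7,6,5,4,3,2,1,3,4,5,6,0,2,3,4,5,1,3,4,2,3,0,2,1,3,4,5,6,7],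 [1,3,4,5,6,0,2,3,4,5,1,3,4,2,3,0,2,1,3,4,5,6,7,6,5,4,3,2,1,3,4,5,6,0,2,3,4,5,1,3,4,2,3,0,2,1,3,4,5,6,7], [2,3,4,5,6,0,2,3,4,5,1,3,4,2,3,0,2,1,3,4,5,6,7,6,5,4,3,2,1,3,4,5,6,0,2,3,4,5,1,3,4,2,3,0,2,1,3,4,5,6,7], [3,4,5,6,0,2,3,4,5,1,3,4,2,3,0,2,1,3,4,5,6,7,6,5,4,3,2,1,3,4,5,6,0,2,3,4,5,1,3,4,2,3,0,2,1,3,4,5,6,7], [4,5,6,0,2,3,4,5,1,3,4,2,3,0,2,1,3,4,5,6,7,6,5,4,3,2,1,3,4,5,6,0,2,3,4,5,1,3,4,2,3,0,2,1,3,4,5,6,7], [5,6,0,2,3,4,5,1,3,4,2,3,0,2,1,3,4,5,6,7,6,5,4,3,2,1,3,4,5,6,0,2,3,4,5,1,3,4,2,3,0,2,1,3,4,5,6,7], [6,0,2,3,4,5,1,3,4,2,3,0,2,1,3,4,5,6,7,6,5,4,3,2,1,3,4,5,6,0,2,3,4,5,1,3,4,2,3,0,2,1,3,4,5,6,7], [0,2,3,4,5,1,3,4,2,3,0,2,1,3,4,5,6,7,6,5,4,3,2,1,3,4,5,6,0,2,3,4,5,1,3,4,2,3,0,2,1,3,4,5,6,7],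 [0,2,3,4,5,1,3,4,2,3,0,2,1,3,4,5,6,7,5,4,3,2,1,3,4,5,6,0,2,3,4,5,1,3,4,2,3,0,2,1,3,4,5,6,7], [1,3,4,5,6,2,3,4,5,1,3,4,2,3,0,2,1,3,4,5,6,7,6,5,4,3,2,1,3,4,5,6,0,2,3,4,5,1,3,4,2,3,0,2,1,3,4,5,6,7], [3,4,5,6,2,3,4,5,1,3,4,2,3,0,2,1,3,4,5,6,7,6,5,4,3,2,1,3,4,5,6,0,2,3,4,5,1,3,4,2,3,0,2,1,3,4,5,6,7], [4,5,6,2,3,4,5,1,3,4,2,3,0,2,1,3,4,5,6,7,6,5,4,3,2,1,3,4,5,6,0,2,3,4,5,1,3,4,2,3,0,2,1,3,4,5,6,7], [5,6,2,3,4,5,1,3,4,2,3,0,2,1,3,4,5,6,7,6,5,4,3,2,1,3,4,5,6,0,2,3,4,5,1,3,4,2,3,0,2,1,3,4,5,6,7], [6,2,3,4,5,1,3,4,2,3,0,2,1,3,4,5,6,7,6,5,4,3,2,1,3,4,5,6,0,2,3,4,5,1,3,4,2,3,0,2,1,3,4,5,6,7], [2,3,4,5,1,3,4,2,3,0,2,1,3,4,5,6,7,6,5,4,3,2,1,3,4,5,6,0,2,3,4,5,1,3,4,2,3,0,2,1,3,4,5,6,7],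 [2,3,4,5,1,3,4,2,3,0,2,1,3,4,5,6,7,5,4,3,2,1,3,4,5,6,0,2,3,4,5,1,3,4,2,3,0,2,1,3,4,5,6,7], [4,5,6,3,4,5,1,3,4,2,3,0,2,1,3,4,5,6,7,6,5,4,3,2,1,3,4,5,6,0,2,3,4,5,1,3,4,2,3,0,2,1,3,4,5,6,7], [5,6,3,4,5,1,3,4,2,3,0,2,1,3,4,5,6,7,6,5,4,3,2,1,3,4,5,6,0,2,3,4,5,1,3,4,2,3,0,2,1,3,4,5,6,7], [6,3,4,5,1,3,4,2,3,0,2,1,3,4,5,6,7,6,5,4,3,2,1,3,4,5,6,0,2,3,4,5,1,3,4,2,3,0,2,1,3,4,5,6,7], [3,4,5,1,3,4,2,3,0,2,1,3,4,5,6,7,6,5,4,3,2,1,3,4,5,6,0,2,3,4,5,1,3,4,2,3,0,2,1,3,4,5,6,7], [3,4,5,1,3,4,2,3,0,2,1,3,4,5,6,7,5,4,3,2,1,3,4,5,6,0,2,3,4,5,1,3,4,2,3,0,2,1,3,4,5,6,7], [5,6,4,5,1,3,4,2,3,0,2,1,3,4,5,6,7,6,5,4,3,2,1,3,4,5,6,0,2,3,4,5,1,3,4,2,3,0,2,1,3,4,5,6,7], [6,4,5,1,3,4,2,3,0,2,1,3,4,5,6,7,6,5,4,3,2,1,3,4,5,6,0,2,3,4,5,1,3,4,2,3,0,2,1,3,4,5,6,7],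 [4,5,1,3,4,2,3,0,2,1,3,4,5,6,7,6,5,4,3,2,1,3,4,5,6,0,2,3,4,5,1,3,4,2,3,0,2,1,3,4,5,6,7], [4,5,1,3,4,2,3,0,2,1,3,4,5,6,7,5,4,3,2,1,3,4,5,6,0,2,3,4,5,1,3,4,2,3,0,2,1,3,4,5,6,7], [6,5,1,3,4,2,3,0,2,1,3,4,5,6,7,6,5,4,3,2,1,3,4,5,6,0,2,3,4,5,1,3,4,2,3,0,2,1,3,4,5,6,7], [5,1,3,4,2,3,0,2,1,3,4,5,6,7,6,5,4,3,2,1,3,4,5,6,0,2,3,4,5,1,3,4,2,3,0,2,1,3,4,5,6,7], [5,1,3,4,2,3,0,2,1,3,4,5,6,7,5,4,3,2,1,3,4,5,6,0,2,3,4,5,1,3,4,2,3,0,2,1,3,4,5,6,7], [1,3,4,2,3,0,2,1,3,4,5,6,7,6,5,4,3,2,1,3,4,5,6,0,2,3,4,5,1,3,4,2,3,0,2,1,3,4,5,6,7], [1,3,4,2,3,0,2,1,3,4,5,6,7,5,4,3,2,1,3,4,5,6,0,2,3,4,5,1,3,4,2,3,0,2,1,3,4,5,6,7], [1,3,4,2,3,0,2,1,3,4,5,6,7,4,3,2,1,3,4,5,6,0,2,3,4,5,1,3,4,2,3,0,2,1,3,4,5,6,7],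 [5,6,4,5,3,4,2,3,0,2,1,3,4,5,6,7,6,5,4,3,2,1,3,4,5,6,0,2,3,4,5,1,3,4,2,3,0,2,1,3,4,5,6,7], [6,4,5,3,4,2,3,0,2,1,3,4,5,6,7,6,5,4,3,2,1,3,4,5,6,0,2,3,4,5,1,3,4,2,3,0,2,1,3,4,5,6,7], [4,5,3,4,2,3,0,2,1,3,4,5,6,7,6,5,4,3,2,1,3,4,5,6,0,2,3,4,5,1,3,4,2,3,0,2,1,3,4,5,6,7], [4,5,3,4,2,3,0,2,1,3,4,5,6,7,5,4,3,2,1,3,4,5,6,0,2,3,4,5,1,3,4,2,3,0,2,1,3,4,5,6,7], [6,5,3,4,2,3,0,2,1,3,4,5,6,7,6,5,4,3,2,1,3,4,5,6,0,2,3,4,5,1,3,4,2,3,0,2,1,3,4,5,6,7], [5,3,4,2,3,0,2,1,3,4,5,6,7,6,5,4,3,2,1,3,4,5,6,0,2,3,4,5,1,3,4,2,3,0,2,1,3,4,5,6,7], [5,3,4,2,3,0,2,1,3,4,5,6,7,5,4,3,2,1,3,4,5,6,0,2,3,4,5,1,3,4,2,3,0,2,1,3,4,5,6,7], [3,4,2,3,0,2,1,3,4,5,6,7,6,5,4,3,2,1,3,4,5,6,0,2,3,4,5,1,3,4,2,3,0,2,1,3,4,5,6,7],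 [3,4,2,3,0,2,1,3,4,5,6,7,5,4,3,2,1,3,4,5,6,0,2,3,4,5,1,3,4,2,3,0,2,1,3,4,5,6,7], [3,4,2,3,0,2,1,3,4,5,6,7,4,3,2,1,3,4,5,6,0,2,3,4,5,1,3,4,2,3,0,2,1,3,4,5,6,7], [6,5,4,2,3,0,2,1,3,4,5,6,7,6,5,4,3,2,1,3,4,5,6,0,2,3,4,5,1,3,4,2,3,0,2,1,3,4,5,6,7], [5,4,2,3,0,2,1,3,4,5,6,7,6,5,4,3,2,1,3,4,5,6,0,2,3,4,5,1,3,4,2,3,0,2,1,3,4,5,6,7], [5,4,2,3,0,2,1,3,4,5,6,7,5,4,3,2,1,3,4,5,6,0,2,3,4,5,1,3,4,2,3,0,2,1,3,4,5,6,7], [4,2,3,0,2,1,3,4,5,6,7,6,5,4,3,2,1,3,4,5,6,0,2,3,4,5,1,3,4,2,3,0,2,1,3,4,5,6,7], [4,2,3,0,2,1,3,4,5,6,7,5,4,3,2,1,3,4,5,6,0,2,3,4,5,1,3,4,2,3,0,2,1,3,4,5,6,7], [4,2,3,0,2,1,3,4,5,6,7,4,3,2,1,3,4,5,6,0,2,3,4,5,1,3,4,2,3,0,2,1,3,4,5,6,7], [2,3,0,2,1,3,4,5,6,7,6,5,4,3,2,1,3,4,5,6,0,2,3,4,5,1,3,4,2,3,0,2,1,3,4,5,6,7],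 [2,3,0,2,1,3,4,5,6,7,5,4,3,2,1,3,4,5,6,0,2,3,4,5,1,3,4,2,3,0,2,1,3,4,5,6,7], [2,3,0,2,1,3,4,5,6,7,4,3,2,1,3,4,5,6,0,2,3,4,5,1,3,4,2,3,0,2,1,3,4,5,6,7], [2,3,0,2,1,3,4,5,6,7,3,2,1,3,4,5,6,0,2,3,4,5,1,3,4,2,3,0,2,1,3,4,5,6,7], [6,5,4,3,0,2,1,3,4,5,6,7,6,5,4,3,2,1,3,4,5,6,0,2,3,4,5,1,3,4,2,3,0,2,1,3,4,5,6,7], [5,4,3,0,2,1,3,4,5,6,7,6,5,4,3,2,1,3,4,5,6,0,2,3,4,5,1,3,4,2,3,0,2,1,3,4,5,6,7], [5,4,3,0,2,1,3,4,5,6,7,5,4,3,2,1,3,4,5,6,0,2,3,4,5,1,3,4,2,3,0,2,1,3,4,5,6,7], [4,3,0,2,1,3,4,5,6,7,6,5,4,3,2,1,3,4,5,6,0,2,3,4,5,1,3,4,2,3,0,2,1,3,4,5,6,7], [4,3,0,2,1,3,4,5,6,7,5,4,3,2,1,3,4,5,6,0,2,3,4,5,1,3,4,2,3,0,2,1,3,4,5,6,7], [4,3,0,2,1,3,4,5,6,7,4,3,2,1,3,4,5,6,0,2,3,4,5,1,3,4,2,3,0,2,1,3,4,5,6,7],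 [3,0,2,1,3,4,5,6,7,6,5,4,3,2,1,3,4,5,6,0,2,3,4,5,1,3,4,2,3,0,2,1,3,4,5,6,7], [3,0,2,1,3,4,5,6,7,5,4,3,2,1,3,4,5,6,0,2,3,4,5,1,3,4,2,3,0,2,1,3,4,5,6,7], [3,0,2,1,3,4,5,6,7,4,3,2,1,3,4,5,6,0,2,3,4,5,1,3,4,2,3,0,2,1,3,4,5,6,7], [3,0,2,1,3,4,5,6,7,3,2,1,3,4,5,6,0,2,3,4,5,1,3,4,2,3,0,2,1,3,4,5,6,7], [0,2,1,3,4,5,6,7,6,5,4,3,2,1,3,4,5,6,0,2,3,4,5,1,3,4,2,3,0,2,1,3,4,5,6,7], [0,2,1,3,4,5,6,7,5,4,3,2,1,3,4,5,6,0,2,3,4,5,1,3,4,2,3,0,2,1,3,4,5,6,7], [0,2,1,3,4,5,6,7,4,3,2,1,3,4,5,6,0,2,3,4,5,1,3,4,2,3,0,2,1,3,4,5,6,7], [0,2,1,3,4,5,6,7,3,2,1,3,4,5,6,0,2,3,4,5,1,3,4,2,3,0,2,1,3,4,5,6,7], [0,2,1,3,4,5,6,7,2,1,3,4,5,6,0,2,3,4,5,1,3,4,2,3,0,2,1,3,4,5,6,7], [0,2,3,4,5,6,7,6,5,4,3,2,1,3,4,5,6,0,2,3,4,5,1,3,4,2,3,0,2,1,3,4,5,6,7],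 [0,2,3,4,5,6,7,5,4,3,2,1,3,4,5,6,0,2,3,4,5,1,3,4,2,3,0,2,1,3,4,5,6,7], [0,2,3,4,5,6,7,4,3,2,1,3,4,5,6,0,2,3,4,5,1,3,4,2,3,0,2,1,3,4,5,6,7], [0,2,3,4,5,6,7,3,2,1,3,4,5,6,0,2,3,4,5,1,3,4,2,3,0,2,1,3,4,5,6,7], [0,2,3,4,5,6,7,2,1,3,4,5,6,0,2,3,4,5,1,3,4,2,3,0,2,1,3,4,5,6,7], [0,2,3,4,5,6,7,1,3,4,5,6,0,2,3,4,5,1,3,4,2,3,0,2,1,3,4,5,6,7], [0,2,3,4,5,6,7,1,3,4,5,6,2,3,4,5,1,3,4,2,3,0,2,1,3,4,5,6,7], [6,5,4,3,2,1,3,4,5,6,7,6,5,4,3,2,1,3,4,5,6,0,2,3,4,5,1,3,4,2,3,0,2,1,3,4,5,6,7], [5,4,3,2,1,3,4,5,6,7,6,5,4,3,2,1,3,4,5,6,0,2,3,4,5,1,3,4,2,3,0,2,1,3,4,5,6,7], [5,4,3,2,1,3,4,5,6,7,5,4,3,2,1,3,4,5,6,0,2,3,4,5,1,3,4,2,3,0,2,1,3,4,5,6,7], [4,3,2,1,3,4,5,6,7,6,5,4,3,2,1,3,4,5,6,0,2,3,4,5,1,3,4,2,3,0,2,1,3,4,5,6,7],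 [4,3,2,1,3,4,5,6,7,5,4,3,2,1,3,4,5,6,0,2,3,4,5,1,3,4,2,3,0,2,1,3,4,5,6,7], [4,3,2,1,3,4,5,6,7,4,3,2,1,3,4,5,6,0,2,3,4,5,1,3,4,2,3,0,2,1,3,4,5,6,7], [3,2,1,3,4,5,6,7,6,5,4,3,2,1,3,4,5,6,0,2,3,4,5,1,3,4,2,3,0,2,1,3,4,5,6,7], [3,2,1,3,4,5,6,7,5,4,3,2,1,3,4,5,6,0,2,3,4,5,1,3,4,2,3,0,2,1,3,4,5,6,7], [3,2,1,3,4,5,6,7,4,3,2,1,3,4,5,6,0,2,3,4,5,1,3,4,2,3,0,2,1,3,4,5,6,7], [3,2,1,3,4,5,6,7,3,2,1,3,4,5,6,0,2,3,4,5,1,3,4,2,3,0,2,1,3,4,5,6,7], [2,1,3,4,5,6,7,6,5,4,3,2,1,3,4,5,6,0,2,3,4,5,1,3,4,2,3,0,2,1,3,4,5,6,7], [2,1,3,4,5,6,7,5,4,3,2,1,3,4,5,6,0,2,3,4,5,1,3,4,2,3,0,2,1,3,4,5,6,7], [2,1,3,4,5,6,7,4,3,2,1,3,4,5,6,0,2,3,4,5,1,3,4,2,3,0,2,1,3,4,5,6,7], [2,1,3,4,5,6,7,3,2,1,3,4,5,6,0,2,3,4,5,1,3,4,2,3,0,2,1,3,4,5,6,7],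 [2,1,3,4,5,6,7,2,1,3,4,5,6,0,2,3,4,5,1,3,4,2,3,0,2,1,3,4,5,6,7], [1,3,4,5,6,7,6,5,4,3,2,1,3,4,5,6,0,2,3,4,5,1,3,4,2,3,0,2,1,3,4,5,6,7], [1,3,4,5,6,7,5,4,3,2,1,3,4,5,6,0,2,3,4,5,1,3,4,2,3,0,2,1,3,4,5,6,7], [1,3,4,5,6,7,4,3,2,1,3,4,5,6,0,2,3,4,5,1,3,4,2,3,0,2,1,3,4,5,6,7], [1,3,4,5,6,7,3,2,1,3,4,5,6,0,2,3,4,5,1,3,4,2,3,0,2,1,3,4,5,6,7], [1,3,4,5,6,7,2,1,3,4,5,6,0,2,3,4,5,1,3,4,2,3,0,2,1,3,4,5,6,7], [1,3,4,5,6,7,2,3,4,5,6,0,2,3,4,5,1,3,4,2,3,0,2,1,3,4,5,6,7], [2,3,4,5,6,7,6,5,4,3,2,1,3,4,5,6,0,2,3,4,5,1,3,4,2,3,0,2,1,3,4,5,6,7], [2,3,4,5,6,7,5,4,3,2,1,3,4,5,6,0,2,3,4,5,1,3,4,2,3,0,2,1,3,4,5,6,7], [2,3,4,5,6,7,4,3,2,1,3,4,5,6,0,2,3,4,5,1,3,4,2,3,0,2,1,3,4,5,6,7], [2,3,4,5,6,7,3,2,1,3,4,5,6,0,2,3,4,5,1,3,4,2,3,0,2,1,3,4,5,6,7],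 [2,3,4,5,6,7,2,1,3,4,5,6,0,2,3,4,5,1,3,4,2,3,0,2,1,3,4,5,6,7], [2,3,4,5,6,7,1,3,4,5,6,0,2,3,4,5,1,3,4,2,3,0,2,1,3,4,5,6,7], [3,4,5,6,7,6,5,4,3,2,1,3,4,5,6,0,2,3,4,5,1,3,4,2,3,0,2,1,3,4,5,6,7], [3,4,5,6,7,5,4,3,2,1,3,4,5,6,0,2,3,4,5,1,3,4,2,3,0,2,1,3,4,5,6,7], [3,4,5,6,7,4,3,2,1,3,4,5,6,0,2,3,4,5,1,3,4,2,3,0,2,1,3,4,5,6,7], [3,4,5,6,7,3,2,1,3,4,5,6,0,2,3,4,5,1,3,4,2,3,0,2,1,3,4,5,6,7], [3,4,5,6,7,2,1,3,4,5,6,0,2,3,4,5,1,3,4,2,3,0,2,1,3,4,5,6,7], [4,5,6,7,6,5,4,3,2,1,3,4,5,6,0,2,3,4,5,1,3,4,2,3,0,2,1,3,4,5,6,7], [4,5,6,7,5,4,3,2,1,3,4,5,6,0,2,3,4,5,1,3,4,2,3,0,2,1,3,4,5,6,7], [4,5,6,7,4,3,2,1,3,4,5,6,0,2,3,4,5,1,3,4,2,3,0,2,1,3,4,5,6,7], [4,5,6,7,3,2,1,3,4,5,6,0,2,3,4,5,1,3,4,2,3,0,2,1,3,4,5,6,7],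 [5,6,7,6,5,4,3,2,1,3,4,5,6,0,2,3,4,5,1,3,4,2,3,0,2,1,3,4,5,6,7], [5,6,7,5,4,3,2,1,3,4,5,6,0,2,3,4,5,1,3,4,2,3,0,2,1,3,4,5,6,7], [5,6,7,4,3,2,1,3,4,5,6,0,2,3,4,5,1,3,4,2,3,0,2,1,3,4,5,6,7], [6,7,6,5,4,3,2,1,3,4,5,6,0,2,3,4,5,1,3,4,2,3,0,2,1,3,4,5,6,7], [6,7,5,4,3,2,1,3,4,5,6,0,2,3,4,5,1,3,4,2,3,0,2,1,3,4,5,6,7], [7,6,5,4,3,2,1,3,4,5,6,0,2,3,4,5,1,3,4,2,3,0,2,1,3,4,5,6,7], [6,5,4,3,2,1,3,4,5,6,0,2,3,4,5,1,3,4,2,3,0,2,1,3,4,5,6,7], [7,5,4,3,2,1,3,4,5,6,0,2,3,4,5,1,3,4,2,3,0,2,1,3,4,5,6,7], [5,4,3,2,1,3,4,5,6,0,2,3,4,5,1,3,4,2,3,0,2,1,3,4,5,6,7], [6,7,4,3,2,1,3,4,5,6,0,2,3,4,5,1,3,4,2,3,0,2,1,3,4,5,6,7], [7,4,3,2,1,3,4,5,6,0,2,3,4,5,1,3,4,2,3,0,2,1,3,4,5,6,7], [4,3,2,1,3,4,5,6,0,2,3,4,5,1,3,4,2,3,0,2,1,3,4,5,6,7],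 [5,6,7,3,2,1,3,4,5,6,0,2,3,4,5,1,3,4,2,3,0,2,1,3,4,5,6,7], [6,7,3,2,1,3,4,5,6,0,2,3,4,5,1,3,4,2,3,0,2,1,3,4,5,6,7], [7,3,2,1,3,4,5,6,0,2,3,4,5,1,3,4,2,3,0,2,1,3,4,5,6,7], [3,2,1,3,4,5,6,0,2,3,4,5,1,3,4,2,3,0,2,1,3,4,5,6,7], [4,5,6,7,2,1,3,4,5,6,0,2,3,4,5,1,3,4,2,3,0,2,1,3,4,5,6,7], [5,6,7,2,1,3,4,5,6,0,2,3,4,5,1,3,4,2,3,0,2,1,3,4,5,6,7], [6,7,2,1,3,4,5,6,0,2,3,4,5,1,3,4,2,3,0,2,1,3,4,5,6,7], [7,2,1,3,4,5,6,0,2,3,4,5,1,3,4,2,3,0,2,1,3,4,5,6,7], [2,1,3,4,5,6,0,2,3,4,5,1,3,4,2,3,0,2,1,3,4,5,6,7], [3,4,5,6,7,1,3,4,5,6,0,2,3,4,5,1,3,4,2,3,0,2,1,3,4,5,6,7], [4,5,6,7,1,3,4,5,6,0,2,3,4,5,1,3,4,2,3,0,2,1,3,4,5,6,7], [5,6,7,1,3,4,5,6,0,2,3,4,5,1,3,4,2,3,0,2,1,3,4,5,6,7], [6,7,1,3,4,5,6,0,2,3,4,5,1,3,4,2,3,0,2,1,3,4,5,6,7],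 [7,1,3,4,5,6,0,2,3,4,5,1,3,4,2,3,0,2,1,3,4,5,6,7], [1,3,4,5,6,0,2,3,4,5,1,3,4,2,3,0,2,1,3,4,5,6,7], [3,4,5,6,7,2,3,4,5,6,0,2,3,4,5,1,3,4,2,3,0,2,1,3,4,5,6,7], [4,5,6,7,2,3,4,5,6,0,2,3,4,5,1,3,4,2,3,0,2,1,3,4,5,6,7], [5,6,7,2,3,4,5,6,0,2,3,4,5,1,3,4,2,3,0,2,1,3,4,5,6,7], [6,7,2,3,4,5,6,0,2,3,4,5,1,3,4,2,3,0,2,1,3,4,5,6,7], [7,2,3,4,5,6,0,2,3,4,5,1,3,4,2,3,0,2,1,3,4,5,6,7], [2,3,4,5,6,0,2,3,4,5,1,3,4,2,3,0,2,1,3,4,5,6,7], [4,5,6,7,3,4,5,6,0,2,3,4,5,1,3,4,2,3,0,2,1,3,4,5,6,7], [5,6,7,3,4,5,6,0,2,3,4,5,1,3,4,2,3,0,2,1,3,4,5,6,7], [6,7,3,4,5,6,0,2,3,4,5,1,3,4,2,3,0,2,1,3,4,5,6,7], [7,3,4,5,6,0,2,3,4,5,1,3,4,2,3,0,2,1,3,4,5,6,7], [3,4,5,6,0,2,3,4,5,1,3,4,2,3,0,2,1,3,4,5,6,7],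 [5,6,7,4,5,6,0,2,3,4,5,1,3,4,2,3,0,2,1,3,4,5,6,7], [6,7,4,5,6,0,2,3,4,5,1,3,4,2,3,0,2,1,3,4,5,6,7], [7,4,5,6,0,2,3,4,5,1,3,4,2,3,0,2,1,3,4,5,6,7], [4,5,6,0,2,3,4,5,1,3,4,2,3,0,2,1,3,4,5,6,7], [6,7,5,6,0,2,3,4,5,1,3,4,2,3,0,2,1,3,4,5,6,7], [7,5,6,0,2,3,4,5,1,3,4,2,3,0,2,1,3,4,5,6,7], [5,6,0,2,3,4,5,1,3,4,2,3,0,2,1,3,4,5,6,7], [7,6,0,2,3,4,5,1,3,4,2,3,0,2,1,3,4,5,6,7], [6,0,2,3,4,5,1,3,4,2,3,0,2,1,3,4,5,6,7], [0,2,3,4,5,1,3,4,2,3,0,2,1,3,4,5,6,7], [2,3,4,5,6,7,1,3,4,5,6,2,3,4,5,1,3,4,2,3,0,2,1,3,4,5,6,7], [3,4,5,6,7,1,3,4,5,6,2,3,4,5,1,3,4,2,3,0,2,1,3,4,5,6,7], [4,5,6,7,1,3,4,5,6,2,3,4,5,1,3,4,2,3,0,2,1,3,4,5,6,7], [5,6,7,1,3,4,5,6,2,3,4,5,1,3,4,2,3,0,2,1,3,4,5,6,7],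 [6,7,1,3,4,5,6,2,3,4,5,1,3,4,2,3,0,2,1,3,4,5,6,7], [7,1,3,4,5,6,2,3,4,5,1,3,4,2,3,0,2,1,3,4,5,6,7], [1,3,4,5,6,2,3,4,5,1,3,4,2,3,0,2,1,3,4,5,6,7], [4,5,6,7,3,4,5,6,2,3,4,5,1,3,4,2,3,0,2,1,3,4,5,6,7], [5,6,7,3,4,5,6,2,3,4,5,1,3,4,2,3,0,2,1,3,4,5,6,7], [6,7,3,4,5,6,2,3,4,5,1,3,4,2,3,0,2,1,3,4,5,6,7], [7,3,4,5,6,2,3,4,5,1,3,4,2,3,0,2,1,3,4,5,6,7], [3,4,5,6,2,3,4,5,1,3,4,2,3,0,2,1,3,4,5,6,7], [5,6,7,4,5,6,2,3,4,5,1,3,4,2,3,0,2,1,3,4,5,6,7], [6,7,4,5,6,2,3,4,5,1,3,4,2,3,0,2,1,3,4,5,6,7], [7,4,5,6,2,3,4,5,1,3,4,2,3,0,2,1,3,4,5,6,7], [4,5,6,2,3,4,5,1,3,4,2,3,0,2,1,3,4,5,6,7], [6,7,5,6,2,3,4,5,1,3,4,2,3,0,2,1,3,4,5,6,7], [7,5,6,2,3,4,5,1,3,4,2,3,0,2,1,3,4,5,6,7], [5,6,2,3,4,5,1,3,4,2,3,0,2,1,3,4,5,6,7],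 [7,6,2,3,4,5,1,3,4,2,3,0,2,1,3,4,5,6,7], [6,2,3,4,5,1,3,4,2,3,0,2,1,3,4,5,6,7], [2,3,4,5,1,3,4,2,3,0,2,1,3,4,5,6,7], [5,6,7,4,5,6,3,4,5,1,3,4,2,3,0,2,1,3,4,5,6,7], [6,7,4,5,6,3,4,5,1,3,4,2,3,0,2,1,3,4,5,6,7], [7,4,5,6,3,4,5,1,3,4,2,3,0,2,1,3,4,5,6,7], [4,5,6,3,4,5,1,3,4,2,3,0,2,1,3,4,5,6,7], [6,7,5,6,3,4,5,1,3,4,2,3,0,2,1,3,4,5,6,7], [7,5,6,3,4,5,1,3,4,2,3,0,2,1,3,4,5,6,7], [5,6,3,4,5,1,3,4,2,3,0,2,1,3,4,5,6,7], [7,6,3,4,5,1,3,4,2,3,0,2,1,3,4,5,6,7], [6,3,4,5,1,3,4,2,3,0,2,1,3,4,5,6,7], [3,4,5,1,3,4,2,3,0,2,1,3,4,5,6,7], [6,7,5,6,4,5,1,3,4,2,3,0,2,1,3,4,5,6,7], [7,5,6,4,5,1,3,4,2,3,0,2,1,3,4,5,6,7], [5,6,4,5,1,3,4,2,3,0,2,1,3,4,5,6,7], [7,6,4,5,1,3,4,2,3,0,2,1,3,4,5,6,7],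 [6,4,5,1,3,4,2,3,0,2,1,3,4,5,6,7], [4,5,1,3,4,2,3,0,2,1,3,4,5,6,7], [7,6,5,1,3,4,2,3,0,2,1,3,4,5,6,7], [6,5,1,3,4,2,3,0,2,1,3,4,5,6,7], [5,1,3,4,2,3,0,2,1,3,4,5,6,7], [1,3,4,2,3,0,2,1,3,4,5,6,7], [6,7,5,6,4,5,3,4,2,3,0,2,1,3,4,5,6,7], [7,5,6,4,5,3,4,2,3,0,2,1,3,4,5,6,7], [5,6,4,5,3,4,2,3,0,2,1,3,4,5,6,7], [7,6,4,5,3,4,2,3,0,2,1,3,4,5,6,7], [6,4,5,3,4,2,3,0,2,1,3,4,5,6,7], [4,5,3,4,2,3,0,2,1,3,4,5,6,7], [7,6,5,3,4,2,3,0,2,1,3,4,5,6,7], [6,5,3,4,2,3,0,2,1,3,4,5,6,7], [5,3,4,2,3,0,2,1,3,4,5,6,7], [3,4,2,3,0,2,1,3,4,5,6,7], [7,6,5,4,2,3,0,2,1,3,4,5,6,7], [6,5,4,2,3,0,2,1,3,4,5,6,7], [5,4,2,3,0,2,1,3,4,5,6,7], [4,2,3,0,2,1,3,4,5,6,7], [2,3,0,2,1,3,4,5,6,7], [7,6,5,4,3,0,2,1,3,4,5,6,7],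 [6,5,4,3,0,2,1,3,4,5,6,7], [5,4,3,0,2,1,3,4,5,6,7], [4,3,0,2,1,3,4,5,6,7], [3,0,2,1,3,4,5,6,7], [0,2,1,3,4,5,6,7], [0,2,3,4,5,6,7], [7,6,5,4,3,2,1,3,4,5,6,7], [6,5,4,3,2,1,3,4,5,6,7], [5,4,3,2,1,3,4,5,6,7], [4,3,2,1,3,4,5,6,7], [3,2,1,3,4,5,6,7], [2,1,3,4,5,6,7], [1,3,4,5,6,7], [2,3,4,5,6,7], [3,4,5,6,7], [4,5,6,7], [5,6,7], [6,7], [7], []]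
def gnA : Array (List ℕ) := #[[7,6,5,4,3,2,1,3,4,5,6,0,2,3,4,5,1,3,4,2,3,0,2,1,3,4,5,6,7], [6,5,4,3,2,1,3,4,5,6,0,2,3,4,5,1,3,4,2,3,0,2,1,3,4,5,6,7], [5,4,3,2,1,3,4,5,6,0,2,3,4,5,1,3,4,2,3,0,2,1,3,4,5,6,7], [4,3,2,1,3,4,5,6,0,2,3,4,5,1,3,4,2,3,0,2,1,3,4,5,6,7], [3,2,1,3,4,5,6,0,2,3,4,5,1,3,4,2,3,0,2,1,3,4,5,6,7], [2,1,3,4,5,6,0,2,3,4,5,1,3,4,2,3,0,2,1,3,4,5,6,7], [1,3,4,5,6,0,2,3,4,5,1,3,4,2,3,0,2,1,3,4,5,6,7], [2,3,4,5,6,0,2,3,4,5,1,3,4,2,3,0,2,1,3,4,5,6,7], [3,4,5,6,0,2,3,4,5,1,3,4,2,3,0,2,1,3,4,5,6,7], [4,5,6,0,2,3,4,5,1,3,4,2,3,0,2,1,3,4,5,6,7], [5,6,0,2,3,4,5,1,3,4,2,3,0,2,1,3,4,5,6,7], [6,0,2,3,4,5,1,3,4,2,3,0,2,1,3,4,5,6,7], [0,2,3,4,5,1,3,4,2,3,0,2,1,3,4,5,6,7],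 [0,2,3,4,5,1,3,4,2,3,0,2,1,3,4,5,6,7,6], [1,3,4,5,6,2,3,4,5,1,3,4,2,3,0,2,1,3,4,5,6,7], [3,4,5,6,2,3,4,5,1,3,4,2,3,0,2,1,3,4,5,6,7], [4,5,6,2,3,4,5,1,3,4,2,3,0,2,1,3,4,5,6,7], [5,6,2,3,4,5,1,3,4,2,3,0,2,1,3,4,5,6,7], [6,2,3,4,5,1,3,4,2,3,0,2,1,3,4,5,6,7], [2,3,4,5,1,3,4,2,3,0,2,1,3,4,5,6,7], [2,3,4,5,1,3,4,2,3,0,2,1,3,4,5,6,7,6], [4,5,6,3,4,5,1,3,4,2,3,0,2,1,3,4,5,6,7], [5,6,3,4,5,1,3,4,2,3,0,2,1,3,4,5,6,7], [6,3,4,5,1,3,4,2,3,0,2,1,3,4,5,6,7], [3,4,5,1,3,4,2,3,0,2,1,3,4,5,6,7], [3,4,5,1,3,4,2,3,0,2,1,3,4,5,6,7,6], [5,6,4,5,1,3,4,2,3,0,2,1,3,4,5,6,7], [6,4,5,1,3,4,2,3,0,2,1,3,4,5,6,7], [4,5,1,3,4,2,3,0,2,1,3,4,5,6,7], [4,5,1,3,4,2,3,0,2,1,3,4,5,6,7,6], [6,5,1,3,4,2,3,0,2,1,3,4,5,6,7],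 [5,1,3,4,2,3,0,2,1,3,4,5,6,7], [5,1,3,4,2,3,0,2,1,3,4,5,6,7,6], [1,3,4,2,3,0,2,1,3,4,5,6,7], [1,3,4,2,3,0,2,1,3,4,5,6,7,6], [1,3,4,2,3,0,2,1,3,4,5,6,7,5,6], [5,6,4,5,3,4,2,3,0,2,1,3,4,5,6,7], [6,4,5,3,4,2,3,0,2,1,3,4,5,6,7], [4,5,3,4,2,3,0,2,1,3,4,5,6,7], [4,5,3,4,2,3,0,2,1,3,4,5,6,7,6], [6,5,3,4,2,3,0,2,1,3,4,5,6,7], [5,3,4,2,3,0,2,1,3,4,5,6,7], [5,3,4,2,3,0,2,1,3,4,5,6,7,6], [3,4,2,3,0,2,1,3,4,5,6,7], [3,4,2,3,0,2,1,3,4,5,6,7,6], [3,4,2,3,0,2,1,3,4,5,6,7,5,6], [6,5,4,2,3,0,2,1,3,4,5,6,7], [5,4,2,3,0,2,1,3,4,5,6,7], [5,4,2,3,0,2,1,3,4,5,6,7,6], [4,2,3,0,2,1,3,4,5,6,7], [4,2,3,0,2,1,3,4,5,6,7,6], [4,2,3,0,2,1,3,4,5,6,7,5,6], [2,3,0,2,1,3,4,5,6,7], [2,3,0,2,1,3,4,5,6,7,6],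 [2,3,0,2,1,3,4,5,6,7,5,6], [2,3,0,2,1,3,4,5,6,7,4,5,6], [6,5,4,3,0,2,1,3,4,5,6,7], [5,4,3,0,2,1,3,4,5,6,7], [5,4,3,0,2,1,3,4,5,6,7,6], [4,3,0,2,1,3,4,5,6,7], [4,3,0,2,1,3,4,5,6,7,6], [4,3,0,2,1,3,4,5,6,7,5,6], [3,0,2,1,3,4,5,6,7], [3,0,2,1,3,4,5,6,7,6], [3,0,2,1,3,4,5,6,7,5,6], [3,0,2,1,3,4,5,6,7,4,5,6], [0,2,1,3,4,5,6,7], [0,2,1,3,4,5,6,7,6], [0,2,1,3,4,5,6,7,5,6], [0,2,1,3,4,5,6,7,4,5,6], [0,2,1,3,4,5,6,7,3,4,5,6], [0,2,3,4,5,6,7], [0,2,3,4,5,6,7,6], [0,2,3,4,5,6,7,5,6], [0,2,3,4,5,6,7,4,5,6], [0,2,3,4,5,6,7,3,4,5,6], [0,2,3,4,5,6,7,2,3,4,5,6], [0,2,3,4,5,6,7,0,2,3,4,5,6], [6,5,4,3,2,1,3,4,5,6,7], [5,4,3,2,1,3,4,5,6,7], [5,4,3,2,1,3,4,5,6,7,6], [4,3,2,1,3,4,5,6,7],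 [4,3,2,1,3,4,5,6,7,6], [4,3,2,1,3,4,5,6,7,5,6], [3,2,1,3,4,5,6,7], [3,2,1,3,4,5,6,7,6], [3,2,1,3,4,5,6,7,5,6], [3,2,1,3,4,5,6,7,4,5,6], [2,1,3,4,5,6,7], [2,1,3,4,5,6,7,6], [2,1,3,4,5,6,7,5,6], [2,1,3,4,5,6,7,4,5,6], [2,1,3,4,5,6,7,3,4,5,6], [1,3,4,5,6,7], [1,3,4,5,6,7,6], [1,3,4,5,6,7,5,6], [1,3,4,5,6,7,4,5,6], [1,3,4,5,6,7,3,4,5,6], [1,3,4,5,6,7,1,3,4,5,6], [2,3,4,5,6,7], [2,3,4,5,6,7,6], [2,3,4,5,6,7,5,6], [2,3,4,5,6,7,4,5,6], [2,3,4,5,6,7,3,4,5,6], [2,3,4,5,6,7,2,3,4,5,6], [3,4,5,6,7], [3,4,5,6,7,6], [3,4,5,6,7,5,6], [3,4,5,6,7,4,5,6], [3,4,5,6,7,3,4,5,6], [4,5,6,7], [4,5,6,7,6], [4,5,6,7,5,6], [4,5,6,7,4,5,6], [5,6,7], [5,6,7,6], [5,6,7,5,6], [6,7], [6,7,6],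 [7], [], [7,6], [6], [6,7,5,6], [7,5,6], [5,6], [5,6,7,4,5,6], [6,7,4,5,6], [7,4,5,6], [4,5,6], [4,5,6,7,3,4,5,6], [5,6,7,3,4,5,6], [6,7,3,4,5,6], [7,3,4,5,6], [3,4,5,6], [3,4,5,6,7,2,3,4,5,6], [4,5,6,7,2,3,4,5,6], [5,6,7,2,3,4,5,6], [6,7,2,3,4,5,6], [7,2,3,4,5,6], [2,3,4,5,6], [3,4,5,6,7,1,3,4,5,6], [4,5,6,7,1,3,4,5,6], [5,6,7,1,3,4,5,6], [6,7,1,3,4,5,6], [7,1,3,4,5,6], [1,3,4,5,6], [4,5,6,7,2,1,3,4,5,6], [5,6,7,2,1,3,4,5,6], [6,7,2,1,3,4,5,6], [7,2,1,3,4,5,6], [2,1,3,4,5,6], [5,6,7,3,2,1,3,4,5,6], [6,7,3,2,1,3,4,5,6], [7,3,2,1,3,4,5,6], [3,2,1,3,4,5,6], [6,7,4,3,2,1,3,4,5,6], [7,4,3,2,1,3,4,5,6], [4,3,2,1,3,4,5,6], [7,5,4,3,2,1,3,4,5,6], [5,4,3,2,1,3,4,5,6], [6,5,4,3,2,1,3,4,5,6],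 [2,3,4,5,6,7,0,2,3,4,5,6], [3,4,5,6,7,0,2,3,4,5,6], [4,5,6,7,0,2,3,4,5,6], [5,6,7,0,2,3,4,5,6], [6,7,0,2,3,4,5,6], [7,0,2,3,4,5,6], [0,2,3,4,5,6], [4,5,6,7,0,2,1,3,4,5,6], [5,6,7,0,2,1,3,4,5,6], [6,7,0,2,1,3,4,5,6], [7,0,2,1,3,4,5,6], [0,2,1,3,4,5,6], [5,6,7,3,0,2,1,3,4,5,6], [6,7,3,0,2,1,3,4,5,6], [7,3,0,2,1,3,4,5,6], [3,0,2,1,3,4,5,6], [6,7,4,3,0,2,1,3,4,5,6], [7,4,3,0,2,1,3,4,5,6], [4,3,0,2,1,3,4,5,6], [7,5,4,3,0,2,1,3,4,5,6], [5,4,3,0,2,1,3,4,5,6], [6,5,4,3,0,2,1,3,4,5,6], [5,6,7,2,3,0,2,1,3,4,5,6], [6,7,2,3,0,2,1,3,4,5,6], [7,2,3,0,2,1,3,4,5,6], [2,3,0,2,1,3,4,5,6], [6,7,4,2,3,0,2,1,3,4,5,6], [7,4,2,3,0,2,1,3,4,5,6], [4,2,3,0,2,1,3,4,5,6], [7,5,4,2,3,0,2,1,3,4,5,6],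 [5,4,2,3,0,2,1,3,4,5,6], [6,5,4,2,3,0,2,1,3,4,5,6], [6,7,3,4,2,3,0,2,1,3,4,5,6], [7,3,4,2,3,0,2,1,3,4,5,6], [3,4,2,3,0,2,1,3,4,5,6], [7,5,3,4,2,3,0,2,1,3,4,5,6], [5,3,4,2,3,0,2,1,3,4,5,6], [6,5,3,4,2,3,0,2,1,3,4,5,6], [7,4,5,3,4,2,3,0,2,1,3,4,5,6], [4,5,3,4,2,3,0,2,1,3,4,5,6], [6,4,5,3,4,2,3,0,2,1,3,4,5,6], [5,6,4,5,3,4,2,3,0,2,1,3,4,5,6], [6,7,1,3,4,2,3,0,2,1,3,4,5,6], [7,1,3,4,2,3,0,2,1,3,4,5,6], [1,3,4,2,3,0,2,1,3,4,5,6], [7,5,1,3,4,2,3,0,2,1,3,4,5,6], [5,1,3,4,2,3,0,2,1,3,4,5,6], [6,5,1,3,4,2,3,0,2,1,3,4,5,6], [7,4,5,1,3,4,2,3,0,2,1,3,4,5,6], [4,5,1,3,4,2,3,0,2,1,3,4,5,6], [6,4,5,1,3,4,2,3,0,2,1,3,4,5,6], [5,6,4,5,1,3,4,2,3,0,2,1,3,4,5,6], [7,3,4,5,1,3,4,2,3,0,2,1,3,4,5,6],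 [3,4,5,1,3,4,2,3,0,2,1,3,4,5,6], [6,3,4,5,1,3,4,2,3,0,2,1,3,4,5,6], [5,6,3,4,5,1,3,4,2,3,0,2,1,3,4,5,6], [4,5,6,3,4,5,1,3,4,2,3,0,2,1,3,4,5,6], [7,2,3,4,5,1,3,4,2,3,0,2,1,3,4,5,6], [2,3,4,5,1,3,4,2,3,0,2,1,3,4,5,6], [6,2,3,4,5,1,3,4,2,3,0,2,1,3,4,5,6], [5,6,2,3,4,5,1,3,4,2,3,0,2,1,3,4,5,6], [4,5,6,2,3,4,5,1,3,4,2,3,0,2,1,3,4,5,6], [3,4,5,6,2,3,4,5,1,3,4,2,3,0,2,1,3,4,5,6], [1,3,4,5,6,2,3,4,5,1,3,4,2,3,0,2,1,3,4,5,6], [7,0,2,3,4,5,1,3,4,2,3,0,2,1,3,4,5,6], [0,2,3,4,5,1,3,4,2,3,0,2,1,3,4,5,6], [6,0,2,3,4,5,1,3,4,2,3,0,2,1,3,4,5,6], [5,6,0,2,3,4,5,1,3,4,2,3,0,2,1,3,4,5,6], [4,5,6,0,2,3,4,5,1,3,4,2,3,0,2,1,3,4,5,6], [3,4,5,6,0,2,3,4,5,1,3,4,2,3,0,2,1,3,4,5,6], [2,3,4,5,6,0,2,3,4,5,1,3,4,2,3,0,2,1,3,4,5,6],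 [1,3,4,5,6,0,2,3,4,5,1,3,4,2,3,0,2,1,3,4,5,6], [2,1,3,4,5,6,0,2,3,4,5,1,3,4,2,3,0,2,1,3,4,5,6], [3,2,1,3,4,5,6,0,2,3,4,5,1,3,4,2,3,0,2,1,3,4,5,6], [4,3,2,1,3,4,5,6,0,2,3,4,5,1,3,4,2,3,0,2,1,3,4,5,6], [5,4,3,2,1,3,4,5,6,0,2,3,4,5,1,3,4,2,3,0,2,1,3,4,5,6], [6,5,4,3,2,1,3,4,5,6,0,2,3,4,5,1,3,4,2,3,0,2,1,3,4,5,6], [7,6,5,4,3,2,1,3,4,5,6,0,2,3,4,5,1,3,4,2,3,0,2,1,3,4,5,6]]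

/-- A word of `s_{rr r}`. -/
def wd (r : R7) : List ℕ := wdA.getD r.val []
/-- A word sending `α₇` to `rr r`. -/
def gw (r : R7) : List ℕ := gwA.getD r.val []
/-- A word sending `θ` to `r`. -/
def lw (r : Fin 240) : List ℕ := lwA.getD r.val []
/-- A word sending `α₈` to `r`. -/
def gn (r : Fin 240) : List ℕ := gnA.getD r.val []

/-- The coefficient of the commutator of two roots, when there is one term. -/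
def cf (r s : ℕ) : ℤ := ((chevE8.commTerms r s).head?.map (fun c => c.2.1)).getD 0

/-- The action of a word in the simple reflections. -/
def foldW (l : List ℕ) (s : ℕ) : ℕ := l.foldr (fun i s => chevE8.reflectRoot i s) s

theorem tt_data : ∀ T : P8, gam T < 240 ∧ 239 ≠ gam T ∧ 239 ≠ chevE8.neg (gam T) ∧ chevE8.commTerms (gam T) 239 = [] := by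
  decide +kernel

theorem uu_data : ∀ T T' : P8, T ≠ T' → T' ≠ cmp T → gam T' < 240 ∧ gam T < 240 ∧ gam T ≠ gam T' ∧
    gam T ≠ chevE8.neg (gam T') ∧ chevE8.commTerms (gam T') (gam T) = [] := by
  decide +kernel

theorem uc_data : ∀ T : P8, gam (cmp T) < 240 ∧ gam T < 240 ∧ gam T ≠ gam (cmp T) ∧
    gam T ≠ chevE8.neg (gam (cmp T)) ∧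
    chevE8.commTerms (gam (cmp T)) (gam T) = [(239, cf (gam (cmp T)) (gam T), 1, 1)] ∧
    (cf (gam (cmp T)) (gam T) = 1 ∨ cf (gam (cmp T)) (gam T) = -1) := by
  decide +kernel

theorem lt_data : ∀ r : R7, rr r < 240 ∧ 239 ≠ rr r ∧ 239 ≠ chevE8.neg (rr r) ∧
    chevE8.commTerms (rr r) 239 = [] := by
  decide +kernel

theorem lu0_data : ∀ (r : R7) (T : P8), hs r T = false → rr r < 240 ∧ gam T < 240 ∧ gam T ≠ rr r ∧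
    gam T ≠ chevE8.neg (rr r) ∧ chevE8.commTerms (rr r) (gam T) = [] := by
  decide +kernel

theorem lu_data : ∀ (r : R7) (T : P8), hs r T = true → rr r < 240 ∧ gam T < 240 ∧ gam T ≠ rr r ∧
    gam T ≠ chevE8.neg (rr r) ∧
    chevE8.commTerms (rr r) (gam T) = [(gam (mv r T), cf (rr r) (gam T), 1, 1)] ∧
    (cf (rr r) (gam T) = 1 ∨ cf (rr r) (gam T) = -1) := by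
  decide +kernel

theorem comA_data : ∀ T T' : P7, T ≠ T' → aa T' < 240 ∧ aa T < 240 ∧ aa T ≠ aa T' ∧
    aa T ≠ chevE8.neg (aa T') ∧ chevE8.commTerms (aa T') (aa T) = [] := by
  decide +kernel

theorem la0_data : ∀ (r : R6) (T : P7), hs7 r T = false → rr (em r) < 240 ∧ aa T < 240 ∧ aa T ≠ rr (em r) ∧
    aa T ≠ chevE8.neg (rr (em r)) ∧ chevE8.commTerms (rr (em r)) (aa T) = [] := by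
  decide +kernel

theorem la_data : ∀ (r : R6) (T : P7), hs7 r T = true → rr (em r) < 240 ∧ aa T < 240 ∧ aa T ≠ rr (em r) ∧
    aa T ≠ chevE8.neg (rr (em r)) ∧
    chevE8.commTerms (rr (em r)) (aa T) = [(aa (mv7 r T), cf (rr (em r)) (aa T), 1, 1)] ∧
    (cf (rr (em r)) (aa T) = 1 ∨ cf (rr (em r)) (aa T) = -1) := by
  decide +kernel

theorem wd_lt : ∀ (r : R7), ∀ k ∈ wd r, k < 7 := by decide +kernel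

theorem w_data : ∀ (r : R7) (T : P8), foldW (wd r) (gam T) = gam (swr r T) := by decide +kernel

theorem w7_data : ∀ (r : R6) (T : P7), foldW (wd (em r)) (aa T) = aa (sw7 r T) := by decide +kernel

theorem th_fix : ∀ i : Fin 7, chevE8.reflectRoot i.val 239 = 239 := by decide +kernel

theorem pt_perm : ∀ (i : Fin 7) (T : P8), ∃ T' : P8, chevE8.reflectRoot i.val (gam T) = gam T' := by decide +kernel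

theorem gw_data : ∀ r : R7, (∀ k ∈ gw r, k < 7) ∧ foldW (gw r) 121 = rr r := by decide +kernel

theorem lw_data : ∀ r : Fin 240, (∀ k ∈ lw r, k < 8) ∧ foldW (lw r) 239 = r.val := by decide +kernel

theorem gn_data : ∀ r : Fin 240, (∀ k ∈ gn r, k < 8) ∧ foldW (gn r) 120 = r.val := by decide +kernel

theorem simp_data : ∀ i : Fin 7, ∃ r : R7, rr r = chevE8.simple i.val ∧ rr (ng r) = chevE8.neg (chevE8.simple i.val) := by decide +kernel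

theorem simp6_data : ∀ i : Fin 6, ∃ r r' : R6, rr (em r) = chevE8.simple i.val ∧ rr (em r') = chevE8.neg (chevE8.simple i.val) := by decide +kernel

theorem gam_lt : ∀ T : P8, gam T < 240 := by decide +kernel
theorem aa_lt : ∀ T : P7, aa T < 240 := by decide +kernel
theorem rr_lt : ∀ r : R7, rr r < 240 := by decide +kernel

theorem pw_data : ∀ (r : R7) (T : P8), pair chevE8 (rr r) (gam T) = pwr r T := by decide +kernel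

theorem pw7_data : ∀ (r : R6) (T : P7), pair chevE8 (rr (em r)) (aa T) = pw7 r T := by decide +kernel

theorem pwth_data : ∀ (r : R7), pair chevE8 (rr r) 239 = 0 := by decide +kernel

theorem refl7 : ∀ r : Fin 240, chevE8.reflectRoot 7 r.val = reflB r.val := by decide +kernel
theorem refl6 : ∀ r : Fin 240, chevE8.reflectRoot 6 r.val = reflB7 r.val := by decide +kernel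

theorem pair_119 : ∀ j : Fin 8, pair chevE8 119 (chevE8.simple j.val) = - pair chevE8 120 (chevE8.simple j.val) := by decide +kernel
theorem pair_118 : ∀ j : Fin 8, pair chevE8 118 (chevE8.simple j.val) = - pair chevE8 121 (chevE8.simple j.val) := by decide +kernel

end Cfsg.Agent.Lib.MinE8.InstD
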